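import Cfsg.Agent.Lib.Characters.Clifford
import Cfsg.Agent.Lib.Blocks.Covering
import Mathlib.GroupTheory.FiniteAbelian.Duality

/-!
# Coprime actions on abelian groups: regular orbits, and the covering argument
-/

set_option autoImplicit false
set_option linter.unusedSectionVars false

namespace Cfsg.Agent.Lib.VanishingOrders

variable {A V : Type*} [Group A] [CommGroup V] (φ : A →* MulAut V) {n : ℕ}

theorem eq_of_pow_eq {m : ℕ} (hn : ∀ v : V, v ^ n = 1) (hc : m.Coprime n) {x y : V}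
    (h : x ^ m = y ^ m) : x = y := by
  obtain ⟨k, hk⟩ : ∃ k, m * k ≡ 1 [MOD n] := by
    obtain ⟨k, hk1, -⟩ : ∃ k, m * k ≡ 1 [MOD n] ∧ True := by
      rcases Nat.lt_or_ge 1 n with h1 | h1
      · obtain ⟨k, -, hk⟩ := Nat.exists_mul_mod_eq_one_of_coprime hc h1
        exact ⟨k, by rw [Nat.ModEq, hk, Nat.mod_eq_of_lt h1], trivial⟩
      · interval_cases n
        · exact ⟨1, by simp [(Nat.coprime_zero_right _).1 hc, Nat.ModEq], trivial⟩
        · exact ⟨1, Nat.modEq_one, trivial⟩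
    exact ⟨k, hk1⟩
  have key : ∀ z : V, (z ^ m) ^ k = z := fun z => by
    rw [← pow_mul]
    conv_rhs => rw [← pow_one z]
    exact pow_eq_pow_iff_modEq.2 (hk.of_dvd (orderOf_dvd_of_pow_eq_one (hn z)))
  rw [← key x, h, key y]

/-- An abelian group acting coprimely has a point whose stabiliser acts trivially. -/
theorem exists_regular [Finite A] (hn : ∀ v : V, v ^ n = 1) (B : Subgroup A)
    (hB : ∀ a ∈ B, ∀ b ∈ B, a * b = b * a) (hc : (Nat.card B).Coprime n) :
    ∃ v : V, ∀ a ∈ B, φ a v = v → ∀ w, φ a w = w := by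
  classical
  let S : V → Subgroup A := fun v =>
    { carrier := {a | a ∈ B ∧ φ a v = v}
      one_mem' := ⟨B.one_mem, by simp⟩
      mul_mem' := fun {a b} ha hb => ⟨B.mul_mem ha.1 hb.1, by
        rw [map_mul, MulAut.mul_apply, hb.2, ha.2]⟩
      inv_mem' := fun {a} ha => ⟨B.inv_mem ha.1, by
        rw [map_inv, MulAut.inv_apply, MulEquiv.symm_apply_eq, ha.2]⟩ }
  obtain ⟨v, hv⟩ : ∃ v, ∀ v', Nat.card (S v) ≤ Nat.card (S v') := by
    have hne : (Set.range fun v => Nat.card (S v)).Nonempty := ⟨_, 1, rfl⟩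
    obtain ⟨v, hv⟩ := Nat.sInf_mem hne
    exact ⟨v, fun v' => le_of_eq_of_le hv (Nat.sInf_le ⟨v', rfl⟩)⟩
  refine ⟨v, fun a haB ha w => ?_⟩
  by_contra hw
  haveI := Fintype.ofFinite (S v)
  set m := Nat.card (S v) with hm
  have hSB : S v ≤ B := fun x hx => hx.1
  have hcm : m.Coprime n := hc.coprime_dvd_left (Subgroup.card_dvd_of_le hSB)
  let N : V → V := fun x => ∏ s : S v, φ (s : A) x
  have hNmul : ∀ x y, N (x * y) = N x * N y := fun x y => by
    simp only [N, map_mul, Finset.prod_mul_distrib]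
  have hNfix : ∀ s ∈ S v, ∀ x, φ s (N x) = N x := fun s hs x => by
    simp only [N, map_prod]
    refine Fintype.prod_equiv (Equiv.mulLeft (⟨s, hs⟩ : S v)) _ _ fun t => ?_
    simp [map_mul, MulAut.mul_apply]
  have hNof : ∀ x, (∀ s ∈ S v, φ s x = x) → N x = x ^ m := fun x hx => by
    simp only [N, Finset.prod_congr rfl fun (s : S v) _ => hx s s.2, Finset.prod_const,
      Finset.card_univ, hm, Nat.card_eq_fintype_card]
  have hNcomm : ∀ b ∈ B, ∀ x, N (φ b x) = φ b (N x) := fun b hb x => by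
    simp only [N, map_prod]
    refine Finset.prod_congr rfl fun s _ => ?_
    rw [← MulAut.mul_apply, ← map_mul, hB s (hSB s.2) b hb, map_mul, MulAut.mul_apply]
  set w' := w ^ m * (N w)⁻¹ with hw'
  have haw : φ a w' ≠ w' := fun h => hw <| eq_of_pow_eq hn hcm (by
    have h1 : φ a (w ^ m) * (N w)⁻¹ = w ^ m * (N w)⁻¹ := by
      calc φ a (w ^ m) * (N w)⁻¹ = φ a w' := by rw [hw', map_mul, map_inv, hNfix a ⟨haB, ha⟩]
        _ = _ := h
    rw [← map_pow]
    exact mul_right_cancel h1)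
  have hNv : N v = v ^ m := hNof v fun s hs => hs.2
  have hNw' : N w' = 1 := by
    have h1 : N (N w) = N w ^ m := hNof _ fun s hs => hNfix s hs w
    have h2 : ∀ x, N (x⁻¹) = (N x)⁻¹ := fun x => by simp [N, Finset.prod_inv_distrib]
    have h3 : ∀ x k, N (x ^ k) = N x ^ k := fun x k => by
      simp only [N, map_pow, Finset.prod_pow]
    rw [hw', hNmul, h2, h3, h1, mul_inv_cancel]
  have hle : S (v * w') ≤ S v := by
    rintro b ⟨hbB, hb⟩
    refine ⟨hbB, eq_of_pow_eq hn hcm ?_⟩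
    have h1 := congrArg N hb
    rw [hNcomm b hbB, hNmul, hNv, hNw', mul_one, map_pow] at h1
    exact h1
  have hlt : S (v * w') < S v := lt_of_le_of_ne hle fun he => by
    have : a ∈ S (v * w') := he ▸ (⟨haB, ha⟩ : a ∈ S v)
    have h1 := this.2
    rw [map_mul, ha] at h1
    exact haw (mul_left_cancel h1)
  have := hv (v * w')
  have h2 : S (v * w') = S v := Subgroup.eq_of_le_of_card_ge hle this
  exact hlt.ne h2

/-- Two commuting elements of prime order, all whose relevant products are fixed-point-free, act on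
the trivial group. -/
theorem eq_one_of_fpf {p : ℕ} (hp : p.Prime) (hn : ∀ v : V, v ^ n = 1) (hpn : p.Coprime n)
    {a b : A} (hab : a * b = b * a) (hap : a ^ p = 1) (hbp : b ^ p = 1)
    (ha : ∀ v, φ a v = v → v = 1) (hb : ∀ i : ℕ, ∀ v, φ (b * a ^ i) v = v → v = 1) (v : V) :
    v = 1 := by
  -- the norm of an element of order `p` is fixed by it
  have hfix : ∀ c : A, c ^ p = 1 → ∀ x, φ c (∏ j ∈ Finset.range p, φ (c ^ j) x) =
      ∏ j ∈ Finset.range p, φ (c ^ j) x := fun c hc x => by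
    obtain ⟨q, rfl⟩ := Nat.exists_eq_succ_of_ne_zero hp.ne_zero
    rw [map_prod, Finset.prod_congr rfl fun j _ => show φ c (φ (c ^ j) x) = φ (c ^ (j + 1)) x by
      rw [← MulAut.mul_apply, ← map_mul, pow_succ'], Finset.prod_range_succ, hc,
      Finset.prod_range_succ' (fun j => φ (c ^ j) x) q, pow_zero]
  have haj : ∀ j : ℕ, 0 < j → j < p → ∀ x, ∏ i ∈ Finset.range p, φ ((a ^ j) ^ i) x = 1 := by
    intro j hj0 hjp x
    refine ha _ ?_
    set X := ∏ i ∈ Finset.range p, φ ((a ^ j) ^ i) x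
    have h1 : φ (a ^ j) X = X := hfix (a ^ j) (by rw [← pow_mul, mul_comm, pow_mul, hap, one_pow]) x
    obtain ⟨k, -, hk⟩ := Nat.exists_mul_mod_eq_one_of_coprime
      ((hp.coprime_iff_not_dvd.2 fun hd => (Nat.le_of_dvd hj0 hd).not_gt hjp).symm) hp.one_lt
    have h2 : a = (a ^ j) ^ k := by
      rw [← pow_mul]
      conv_lhs => rw [← pow_one a]
      refine pow_eq_pow_iff_modEq.2 (Nat.ModEq.of_dvd (orderOf_dvd_of_pow_eq_one hap) ?_)
      rw [Nat.ModEq, hk, Nat.mod_eq_of_lt hp.one_lt]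
    rw [h2]
    clear hk h2
    induction k with
    | zero => simp
    | succ k ih => rw [pow_succ, map_mul, MulAut.mul_apply, h1, ih]
  have h1 : ∀ i : ℕ, ∏ j ∈ Finset.range p, φ ((b * a ^ i) ^ j) v = 1 := fun i => by
    refine hb i _ (hfix _ ?_ v)
    rw [Commute.mul_pow ((show Commute b a from hab.symm).pow_right i), hbp, ← pow_mul, mul_comm i p, pow_mul,
      hap, one_pow, one_mul]
  have h2 : ∏ j ∈ Finset.range p, ∏ i ∈ Finset.range p, φ ((b * a ^ i) ^ j) v = 1 := by
    rw [Finset.prod_comm]; exact Finset.prod_eq_one fun i _ => h1 i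
  obtain ⟨q, rfl⟩ := Nat.exists_eq_succ_of_ne_zero hp.ne_zero
  rw [Finset.prod_range_succ', Finset.prod_eq_one fun j hj => ?_, one_mul] at h2
  · simp only [pow_zero, map_one, MulAut.one_apply, Finset.prod_const, Finset.card_range] at h2
    exact eq_of_pow_eq hn hpn (h2.trans (one_pow _).symm)
  · have hcomm : ∀ i, (b * a ^ i) ^ (j + 1) = b ^ (j + 1) * (a ^ (j + 1)) ^ i := fun i => by
      rw [Commute.mul_pow ((show Commute b a from hab.symm).pow_right i), ← pow_mul, ← pow_mul, mul_comm i]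
    simp only [hcomm, map_mul, MulAut.mul_apply]
    rw [← map_prod, haj (j + 1) (Nat.succ_pos _) (by rw [Finset.mem_range] at hj; omega), map_one]

end Cfsg.Agent.Lib.VanishingOrders
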