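import Cfsg.Agent.Lib.VanishingOrders.Actions
import Cfsg.Agent.Lib.Cores.PCore
import Cfsg.Agent.Lib.Solvable.Carter
import Cfsg.Agent.Lib.Characters.Kernel

/-!
# Vanishing elements: basic constructions
-/

set_option autoImplicit false
set_option linter.unusedSectionVars false
set_option linter.style.haveILetI false

namespace Cfsg.Agent.Lib.VanishingOrders

open Cfsg Cfsg.Agent.Lib.Characters

universe u

variable {G : Type u} [Group G] [Finite G] {p : ℕ}

/-- A `p`-singular element at which an irreducible character vanishes. -/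
def VS (p : ℕ) (x : G) : Prop := p ∣ orderOf x ∧ ∃ χ : IrrCharacter G, (χ : G → ℂ) x = 0

theorem exists_zero_of_image {H : Type u} [Group H] (f : G →* H) (hf : Function.Surjective f)
    {x : G} (h : ∃ χ : IrrCharacter H, (χ : H → ℂ) (f x) = 0) :
    ∃ χ : IrrCharacter G, (χ : G → ℂ) x = 0 := by
  obtain ⟨χ, hχ⟩ := h
  exact ⟨⟨_, IsIrrCharacter.comp_surjective χ.2 f hf⟩, hχ⟩

theorem VS.of_image {H : Type u} [Group H] (f : G →* H) (hf : Function.Surjective f) {x : G}
    (h : VS p (f x)) : VS p x :=
  ⟨h.1.trans (orderOf_map_dvd f x), exists_zero_of_image f hf h.2⟩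

/-- A `p`-element of a quotient by a group of order prime to `p` lifts with the same order. -/
theorem exists_lift [hp : Fact p.Prime] (N : Subgroup G) [N.Normal] (hN : ¬ p ∣ Nat.card N)
    {x : G ⧸ N} {k : ℕ} (hx : orderOf x = p ^ k) :
    ∃ y : G, QuotientGroup.mk' N y = x ∧ orderOf y = p ^ k := by
  obtain ⟨y, rfl⟩ := QuotientGroup.mk'_surjective N x
  obtain ⟨e, he1, he0⟩ := Nat.chineseRemainder
    ((hp.out.coprime_iff_not_dvd.2 hN).pow_left k) 1 0
  have hpow : (QuotientGroup.mk' N y) ^ e = QuotientGroup.mk' N y := by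
    conv_rhs => rw [← pow_one (QuotientGroup.mk' N y)]
    exact pow_eq_pow_iff_modEq.2 (hx ▸ he1)
  refine ⟨y ^ e, by rw [map_pow, hpow], Nat.dvd_antisymm (orderOf_dvd_of_pow_eq_one ?_) ?_⟩
  · obtain ⟨c, hc⟩ : Nat.card N ∣ e := Nat.modEq_zero_iff_dvd.1 he0
    have hm : y ^ p ^ k ∈ N := (QuotientGroup.eq_one_iff _).1 (by
      have := pow_orderOf_eq_one (QuotientGroup.mk' N y)
      rwa [hx, ← map_pow] at this)
    rw [← pow_mul, mul_comm, pow_mul, hc, pow_mul]
    have := congrArg Subtype.val (pow_card_eq_one' (x := (⟨_, hm⟩ : N)))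
    simp only [SubmonoidClass.coe_pow, OneMemClass.coe_one] at this
    rw [this, one_pow]
  · calc p ^ k = orderOf (QuotientGroup.mk' N (y ^ e)) := by rw [map_pow, hpow, hx]
      _ ∣ _ := orderOf_map_dvd _ _

/-- A `p`-element of a quotient by a `p`-group has a `p`-element as every preimage. -/
theorem exists_pow_of_quotient [hp : Fact p.Prime] (N : Subgroup G) [N.Normal] (hN : IsPGroup p N)
    {y : G} {k : ℕ} (hy : orderOf (QuotientGroup.mk' N y) = p ^ k) :
    ∃ j, orderOf y = p ^ j := by
  have hm : y ^ p ^ k ∈ N := (QuotientGroup.eq_one_iff _).1 (by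
    have := pow_orderOf_eq_one (QuotientGroup.mk' N y)
    rwa [hy, ← map_pow] at this)
  obtain ⟨i, hi⟩ := hN ⟨_, hm⟩
  have h1 : y ^ p ^ (k + i) = 1 := by
    rw [pow_add, pow_mul]
    exact congrArg Subtype.val hi
  obtain ⟨j, -, hj⟩ := (Nat.dvd_prime_pow hp.out).1 (orderOf_dvd_of_pow_eq_one h1)
  exact ⟨j, hj⟩

/-- The conjugation action of `G / N` on an abelian normal subgroup `N`. -/
def qact (N : Subgroup G) [N.Normal] [IsMulCommutative N] : G ⧸ N →* MulAut N :=
  QuotientGroup.lift N (MulAut.conjNormal) fun a ha => MonoidHom.mem_ker.2 (MulEquiv.ext fun m =>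
    Subtype.ext (by
      rw [MulAut.conjNormal_apply, MulAut.one_apply]
      have : (⟨a, ha⟩ : N) * m = m * ⟨a, ha⟩ := Std.Commutative.comm (op := (· * ·)) _ _
      rw [show a * (m : G) = m * a from congrArg Subtype.val this, mul_inv_cancel_right]))

theorem qact_mk (N : Subgroup G) [N.Normal] [IsMulCommutative N] (g : G) (m : N) :
    ((qact N (QuotientGroup.mk' N g) m : N) : G) = g * m * g⁻¹ :=
  MulAut.conjNormal_apply g m

open scoped IsMulCommutative in
/-- The contragredient action on the linear characters. -/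
noncomputable def dact (N : Subgroup G) [N.Normal] [IsMulCommutative N] :
    G ⧸ N →* MulAut (↥N →* ℂˣ) where
  toFun x :=
    { toFun := fun l => l.comp (qact N x⁻¹).toMonoidHom
      invFun := fun l => l.comp (qact N x).toMonoidHom
      left_inv := fun l => MonoidHom.ext fun m => by simp
      right_inv := fun l => MonoidHom.ext fun m => by simp
      map_mul' := fun l l' => MonoidHom.ext fun m => rfl }
  map_one' := MulEquiv.ext fun l => MonoidHom.ext fun m => by simp
  map_mul' := fun x y => MulEquiv.ext fun l => MonoidHom.ext fun m => by simp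

theorem dact_apply (N : Subgroup G) [N.Normal] [IsMulCommutative N] (x : G ⧸ N) (l : ↥N →* ℂˣ)
    (m : N) : dact N x l m = l (qact N x⁻¹ m) := rfl

/-- If no conjugate of `x` fixes the linear character `l` of the abelian normal subgroup `N`, some
irreducible character vanishes at `x`. -/
theorem exists_zero_of_not_fixed (N : Subgroup G) [N.Normal] [IsMulCommutative N] (l : ↥N →* ℂˣ)
    {x : G} (h : ∀ g : G, dact N (QuotientGroup.mk' N (g * x * g⁻¹)) l ≠ l) :
    ∃ χ : IrrCharacter G, (χ : G → ℂ) x = 0 := by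
  classical
  haveI := Fintype.ofFinite G
  haveI := Fintype.ofFinite N
  haveI := Fintype.ofFinite (IrrCharacter G)
  let θ : IrrCharacter N := ⟨_, isIrrCharacter_unitsHom l⟩
  obtain ⟨χ, hχ⟩ := Blocks.exists_over (G := G) N θ
  refine ⟨χ, ?_⟩
  set T := inertia N (θ : N → ℂ) with hT
  haveI := Fintype.ofFinite T
  obtain ⟨ψ, -, hψ, -⟩ := exists_clifford_correspondent N χ.2 θ.2 hχ T rfl
    (le_inertia N (irr_isClassFunction θ))
  rw [← hψ]
  refine indFun_eq_zero T ψ fun g hg => h g⁻¹ ?_
  rw [inv_inv]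
  have h1 : QuotientGroup.mk' N (g⁻¹ * x * g) = QuotientGroup.mk' N (g⁻¹ * x * g)⁻¹⁻¹ := by
    rw [inv_inv]
  refine MonoidHom.ext fun m => Units.ext ?_
  have h2 := congrFun ((mem_inertia_iff N).1 (inv_mem hg)) m
  rw [dact_apply, ← map_inv]
  convert h2 using 2
  show ((l _ : ℂˣ) : ℂ) = ((l ⟨_, _⟩ : ℂˣ) : ℂ)
  exact congrArg (fun k : N => (l k : ℂ)) (Subtype.ext (qact_mk N _ m))

open scoped IsMulCommutative in
theorem pow_card_dual (N : Subgroup G) [IsMulCommutative N] (l : ↥N →* ℂˣ) :
    l ^ Nat.card N = 1 :=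
  MonoidHom.ext fun m => by
    rw [MonoidHom.pow_apply, ← map_pow, pow_card_eq_one', map_one, MonoidHom.one_apply]

open scoped IsMulCommutative in
/-- The contragredient action detects the action. -/
theorem qact_eq_of_dact (N : Subgroup G) [N.Normal] [IsMulCommutative N] {x : G ⧸ N}
    (h : ∀ l, dact N x l = l) (m : N) : qact N x m = m := by
  haveI : HasEnoughRootsOfUnity ℂ (Monoid.exponent ↥N) := by
    haveI : NeZero ((Monoid.exponent ↥N) : ℂ) :=
      ⟨Nat.cast_ne_zero.mpr Monoid.exponent_ne_zero_of_finite⟩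
    infer_instance
  refine (CommGroup.forall_apply_eq_apply_iff (↥N) (M := ℂ)).1 fun l => ?_
  have h1 := DFunLike.congr_fun (h l) (qact N x m)
  rw [dact_apply] at h1
  rw [← h1]
  congr 1
  rw [map_inv, MulAut.inv_apply, MulEquiv.symm_apply_apply]

theorem exists_irr_separating {z : G} (hz : z ≠ 1) :
    ∃ χ : IrrCharacter G, (χ : G → ℂ) z ≠ (χ : G → ℂ) 1 := by
  classical
  haveI := Fintype.ofFinite G
  haveI := Fintype.ofFinite (IrrCharacter G)
  by_contra h
  push Not at h
  let f : G → ℂ := fun g => if g = 1 then 1 else 0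
  have hf : IsClassFunction G f := fun g y => by simp [f]
  have h1 := congrFun (eq_sum_classInner hf) z
  have h2 := congrFun (eq_sum_classInner hf) 1
  simp only [Finset.sum_apply, Pi.smul_apply, h] at h1 h2
  rw [← h2] at h1
  simp [f, hz] at h1

/-- If `u` conjugates `y` to `z * y` with `z ≠ 1` of prime order in a normal subgroup `Z` of that
order, commuting with `u`, then some irreducible character vanishes at `y`. -/
theorem exists_zero_of_conj {p : ℕ} [hp : Fact p.Prime] (Z : Subgroup G) [Z.Normal]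
    (hZ : Nat.card Z = p) {u y z : G} (hz : z ∈ Z) (hz1 : z ≠ 1) (huz : u * z = z * u)
    (huy : u * y * u⁻¹ = z * y) : ∃ χ : IrrCharacter G, (χ : G → ℂ) y = 0 := by
  classical
  haveI := Fintype.ofFinite G
  obtain ⟨χ, hχ⟩ := exists_irr_separating hz1
  refine ⟨χ, ?_⟩
  obtain ⟨n, ρ, hirr, hρ⟩ := χ.2
  rw [← hρ] at hχ ⊢
  have hzp : z ^ p = 1 :=
    congrArg Subtype.val (show (⟨z, hz⟩ : Z) ^ p = 1 by rw [← hZ]; exact pow_card_eq_one')
  have hgen : Subgroup.zpowers z = Z :=
    Subgroup.eq_of_le_of_card_ge (Subgroup.zpowers_le.2 hz) (by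
      rw [Nat.card_zpowers, hZ]
      exact le_of_eq (orderOf_eq_prime hzp hz1).symm)
  rw [isIrreducible_iff_forall] at hirr
  let F := LinearMap.ker (ρ z - LinearMap.id)
  have hF : F = ⊥ ∨ F = ⊤ := hirr.2 F fun g w hw => by
    rw [LinearMap.mem_ker, LinearMap.sub_apply, LinearMap.id_apply, sub_eq_zero] at hw ⊢
    have hk : ∀ k : ℕ, ρ (z ^ k) w = w := fun k => by
      induction k with
      | zero => simp
      | succ k ih => rw [pow_succ, map_mul, Module.End.mul_apply, hw, ih]
    have hc : g⁻¹ * z * g ∈ Z := by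
      simpa using Subgroup.Normal.conj_mem ‹Z.Normal› z hz g⁻¹
    rw [← hgen, mem_zpowers_iff_mem_range_orderOf] at hc
    obtain ⟨k, -, hk'⟩ := Finset.mem_image.1 hc
    rw [← Module.End.mul_apply, ← map_mul, show z * g = g * z ^ k by
      rw [show z ^ k = g⁻¹ * z * g from hk']; group, map_mul, Module.End.mul_apply, hk]
  rcases hF with hF | hF
  · have hP : ∀ w, (∑ i ∈ Finset.range p, ρ (z ^ i)) w = 0 := fun w => by
      have : (∑ i ∈ Finset.range p, ρ (z ^ i)) w ∈ F := by
        rw [LinearMap.mem_ker, LinearMap.sub_apply, LinearMap.id_apply, sub_eq_zero,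
          LinearMap.sum_apply, map_sum]
        obtain ⟨q, hq⟩ := Nat.exists_eq_succ_of_ne_zero hp.out.ne_zero
        rw [Finset.sum_congr rfl fun i _ => show ρ z (ρ (z ^ i) w) = ρ (z ^ (i + 1)) w by
          rw [← Module.End.mul_apply, ← map_mul, pow_succ'], hq, Finset.sum_range_succ,
          Finset.sum_range_succ' (fun i => ρ (z ^ i) w) q, pow_zero, show z ^ (q + 1) = 1 by
            rw [← Nat.succ_eq_add_one, ← hq, hzp]]
      rwa [hF, Submodule.mem_bot] at this
    have hsum : ∀ i : ℕ, ρ.character (z ^ i * y) = ρ.character y := fun i => by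
      induction i with
      | zero => simp
      | succ i ih =>
        rw [← ih, pow_succ, mul_assoc, ← huy]
        have : z ^ i * (u * y * u⁻¹) = u * (z ^ i * y) * u⁻¹ := by
          have hc : Commute u (z ^ i) := (show Commute u z from huz).pow_right i
          rw [← mul_assoc, ← mul_assoc, ← hc.eq]
          group
        rw [this, Representation.char_conj]
    have h0 : (p : ℂ) * ρ.character y = 0 := by
      calc (p : ℂ) * ρ.character y = ∑ i ∈ Finset.range p, ρ.character (z ^ i * y) := by
            simp [hsum]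
        _ = LinearMap.trace ℂ _ ((∑ i ∈ Finset.range p, ρ (z ^ i)) * ρ y) := by
            simp [Representation.character, map_mul, Finset.sum_mul, map_sum]
        _ = 0 := by rw [show (∑ i ∈ Finset.range p, ρ (z ^ i)) = 0 from LinearMap.ext hP, zero_mul, map_zero]
    exact (mul_eq_zero.1 h0).resolve_left (Nat.cast_ne_zero.2 hp.out.ne_zero)
  · exact absurd (by
      have h1 : ρ z = LinearMap.id := LinearMap.ext fun w => by
        have := hF.symm.le (Submodule.mem_top (x := w))
        rwa [LinearMap.mem_ker, LinearMap.sub_apply, LinearMap.id_apply, sub_eq_zero] at this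
      rw [Representation.character, Representation.character, h1, map_one]
      rfl) hχ

end Cfsg.Agent.Lib.VanishingOrders
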