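import Cfsg.Agent.Lib.VanishingOrders.Main

/-!
# Groups whose vanishing `p`-singular elements all have the same order
-/

set_option autoImplicit false
set_option linter.style.haveILetI false

namespace Cfsg.Agent.Lib.VanishingOrders

open Cfsg Cfsg.Agent.Lib.Cores

universe u

variable {G : Type u} [Group G] [Finite G] {p : ℕ} [hp : Fact p.Prime]

/-- The image of a Sylow subgroup modulo the `p`-core has order dividing `p`. -/
theorem card_map_dvd (hsolv : Group.IsSolvable G)
    (h : ∀ x y : G, VS p x → VS p y → orderOf x = orderOf y) (P : Sylow p G) :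
    Nat.card ↥((P : Subgroup G).map (QuotientGroup.mk' (pCore p G))) ∣ p := by
  haveI := hsolv
  have hmk := QuotientGroup.mk'_surjective (pCore p G)
  have hT : Tame p (G ⧸ pCore p G) := by
    refine ⟨?_, ?_⟩
    · rintro x y hx hy ⟨k, hk⟩
      obtain ⟨x', rfl⟩ := hmk x
      obtain ⟨y', rfl⟩ := hmk y
      obtain ⟨j, hj⟩ := exists_pow_of_quotient (pCore p G) (pCore_isPGroup p G) hk
      rw [h x' y' (hx.of_image _ hmk) (hy.of_image _ hmk)] at hj
      obtain ⟨i, -, hi⟩ := (Nat.dvd_prime_pow hp.out).1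
        (hj ▸ orderOf_map_dvd (QuotientGroup.mk' (pCore p G)) y')
      exact ⟨i, hi⟩
    · intro x hx hxp
      obtain ⟨x', rfl⟩ := hmk x
      rw [← map_pow] at hxp
      have h0 := h x' (x' ^ p) (hx.of_image _ hmk) (hxp.of_image _ hmk)
      rw [orderOf_pow' x' hp.out.ne_zero,
        Nat.gcd_eq_right (hx.of_image _ hmk).1] at h0
      have := Nat.div_lt_self (orderOf_pos x') hp.out.one_lt
      omega
  have hnd := not_sq_dvd (p := p) _ (G ⧸ pCore p G) le_rfl inferInstance
    (pCore_quotient_pCore p G) hT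
  obtain ⟨k, hk⟩ := IsPGroup.iff_card.1 (P.isPGroup'.map (QuotientGroup.mk' (pCore p G)))
  rw [hk]
  conv_rhs => rw [← pow_one p]
  refine pow_dvd_pow p ?_
  by_contra hlt
  exact hnd ((pow_dvd_pow p (not_le.1 hlt)).trans (hk ▸ Subgroup.card_subgroup_dvd_card _))

end Cfsg.Agent.Lib.VanishingOrders
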