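import Cfsg.Agent.Lib.VanishingOrders.Basic
import Mathlib.GroupTheory.Nilpotent
import Mathlib.FieldTheory.Finite.Basic

/-!
# `p`-singular vanishing elements of solvable groups with trivial `p`-core

Such a group of order divisible by `p` has a vanishing element of order `p`. If moreover the
vanishing `p`-singular elements are all `p`-elements as soon as one is, and none of them has a
vanishing `p`-singular `p`-th power, then `p ^ 2` does not divide the order.
-/

set_option autoImplicit false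
set_option linter.unusedSectionVars false
set_option linter.style.haveILetI false

namespace Cfsg.Agent.Lib.VanishingOrders

open Cfsg Cfsg.Agent.Lib.Characters Cfsg.Agent.Lib.Cores

universe u

variable {G : Type u} [Group G] [Finite G] {p : ℕ} [hp : Fact p.Prime]

/-- A minimal setting: an abelian normal subgroup of order prime to `p`. -/
theorem exists_normal (hsolv : Group.IsSolvable G) (hO : pCore p G = ⊥) (hd : p ∣ Nat.card G) :
    ∃ N : Subgroup G, N.Normal ∧ N ≠ ⊥ ∧ IsMulCommutative N ∧ ¬ p ∣ Nat.card N := by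
  haveI := hsolv
  haveI : Nontrivial G := Finite.one_lt_card_iff_nontrivial.1
    (lt_of_lt_of_le hp.out.one_lt (Nat.le_of_dvd Nat.card_pos hd))
  obtain ⟨q, N, hq, hN, hN0, hNc, hNq, -⟩ := Lib.Solvable.Carter.exists_minimal_normal (G := G)
  refine ⟨N, hN, hN0, hNc, fun h => hN0 ?_⟩
  haveI := Fact.mk hq
  obtain ⟨k, hk⟩ := IsPGroup.iff_card.1 hNq
  have hpq : p = q := (Nat.prime_dvd_prime_iff_eq hp.out hq).1 (hp.out.dvd_of_dvd_pow (hk ▸ h))
  subst hpq
  exact (pCore_eq_bot_iff.1 hO) N hN hNq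

variable {N : Subgroup G} [N.Normal] [IsMulCommutative N]

/-- A nontrivial abelian normal `p`-subgroup of the quotient acts faithfully. -/
theorem eq_one_of_trivial_action (hO : pCore p G = ⊥) (hN : ¬ p ∣ Nat.card N)
    (A : Subgroup (G ⧸ N)) [A.Normal] (hA : IsPGroup p A)
    (hAc : ∀ x ∈ A, ∀ y ∈ A, x * y = y * x) {a : G ⧸ N} (ha : a ∈ A)
    (hfix : ∀ m : N, qact N a m = m) : a = 1 := by
  set C := A ⊓ (qact N).ker with hC
  set U := C.comap (QuotientGroup.mk' N) with hU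
  have hcen : ∀ u ∈ U, ∀ m ∈ N, u * m = m * u := fun u hu m hm => by
    have h1 : qact N (QuotientGroup.mk' N u) = 1 := MonoidHom.mem_ker.1 hu.2
    have h2 := qact_mk N u ⟨m, hm⟩
    rw [h1, MulAut.one_apply] at h2
    exact (mul_inv_eq_iff_eq_mul.1 h2.symm)
  have hcomm : ∀ x ∈ U, ∀ y ∈ U, (∃ k : ℕ, y ^ p ^ k = 1) → x * y = y * x := by
    intro x hx y hy ⟨k, hk⟩
    set m := x * y * x⁻¹ * y⁻¹ with hm
    have hmN : m ∈ N := (QuotientGroup.eq_one_iff m).1 (show QuotientGroup.mk' N m = 1 by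
      rw [hm, map_mul, map_mul, map_mul, hAc _ hx.1 _ hy.1, map_inv, map_inv]
      group)
    have h1 : (m * y) ^ p ^ k = 1 := by
      rw [show m * y = x * y * x⁻¹ by simp [hm], conj_pow, hk]
      group
    rw [(show Commute m y from (hcen y hy m hmN).symm).mul_pow, hk, mul_one] at h1
    have h2 : (⟨m, hmN⟩ : N) = 1 := orderOf_eq_one_iff.1 (Nat.eq_one_of_dvd_coprimes
      ((hp.out.coprime_iff_not_dvd.2 hN).pow_left k)
      (orderOf_dvd_of_pow_eq_one (Subtype.ext h1)) (orderOf_dvd_natCard _))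
    have h3 : x * y * x⁻¹ * y⁻¹ = 1 := congrArg Subtype.val h2
    exact mul_inv_eq_iff_eq_mul.1 (mul_inv_eq_one.1 h3)
  let T : Subgroup G :=
    { carrier := {u | u ∈ U ∧ ∃ k : ℕ, u ^ p ^ k = 1}
      one_mem' := ⟨U.one_mem, 0, by simp⟩
      mul_mem' := by
        rintro x y ⟨hx, i, hi⟩ ⟨hy, j, hj⟩
        refine ⟨U.mul_mem hx hy, i + j, ?_⟩
        rw [(show Commute x y from hcomm x hx y hy ⟨j, hj⟩).mul_pow, pow_add, pow_mul x, hi,
          one_pow, mul_comm (p ^ i) (p ^ j), pow_mul, hj, one_pow, one_mul]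
      inv_mem' := by
        rintro x ⟨hx, i, hi⟩
        exact ⟨U.inv_mem hx, i, by rw [inv_pow, hi, inv_one]⟩ }
  haveI hCn : C.Normal := inferInstance
  have hTn : T.Normal := ⟨fun x hx g => by
    obtain ⟨hx, i, hi⟩ := hx
    exact ⟨Subgroup.Normal.conj_mem (inferInstanceAs U.Normal) x hx g, i, by
      rw [conj_pow, hi]; group⟩⟩
  have hTp : IsPGroup p T := fun ⟨x, hx⟩ => by
    obtain ⟨-, i, hi⟩ := hx
    exact ⟨i, Subtype.ext hi⟩
  have hT := (pCore_eq_bot_iff.1 hO) T hTn hTp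
  obtain ⟨k, hk⟩ := IsPGroup.iff_orderOf.1 hA ⟨a, ha⟩
  rw [Subgroup.orderOf_mk] at hk
  obtain ⟨y, hy, hyo⟩ := exists_lift N hN hk
  have hyT : y ∈ T := ⟨by
    show QuotientGroup.mk' N y ∈ C
    rw [hy]
    exact ⟨ha, MonoidHom.mem_ker.2 (MulEquiv.ext hfix)⟩, k, by rw [← hyo, pow_orderOf_eq_one]⟩
  rw [hT, Subgroup.mem_bot] at hyT
  rw [← hy, hyT, map_one]

/-- Every preimage of a nontrivial element of an abelian normal `p`-subgroup of the quotient is a
vanishing element. -/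
theorem exists_zero_of_mem (hO : pCore p G = ⊥) (hN : ¬ p ∣ Nat.card N)
    (A : Subgroup (G ⧸ N)) [A.Normal] (hA : IsPGroup p A)
    (hAc : ∀ x ∈ A, ∀ y ∈ A, x * y = y * x) {x : G} (hx : QuotientGroup.mk' N x ∈ A)
    (hx1 : QuotientGroup.mk' N x ≠ 1) : ∃ χ : IrrCharacter G, (χ : G → ℂ) x = 0 := by
  obtain ⟨k, hk⟩ := IsPGroup.iff_card.1 hA
  open scoped IsMulCommutative in
  obtain ⟨l, hl⟩ := exists_regular (V := ↥N →* ℂˣ) (dact N) (n := Nat.card N) (fun l => MonoidHom.ext fun m => by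
      show l m ^ Nat.card N = 1
      rw [← map_pow, pow_card_eq_one', map_one]) A hAc
    (hk ▸ (hp.out.coprime_iff_not_dvd.2 hN).pow_left k)
  refine exists_zero_of_not_fixed N l fun g hg => hx1 ?_
  have hmem : QuotientGroup.mk' N (g * x * g⁻¹) ∈ A := by
    rw [map_mul, map_mul, map_inv]
    exact Subgroup.Normal.conj_mem ‹A.Normal› _ hx _
  have h := eq_one_of_trivial_action hO hN A hA hAc hmem
    (qact_eq_of_dact N (hl _ hmem hg))
  rw [map_mul, map_mul, map_inv, conj_eq_one_iff] at h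
  exact h

omit [Finite G] hp in
/-- The center of the `p`-core, as a subgroup. -/
theorem center_pCore_props (p : ℕ) (H : Type u) [Group H] [Finite H] [hp : Fact p.Prime]
    (hne : pCore p H ≠ ⊥) :
    ∃ A : Subgroup H, A.Normal ∧ IsPGroup p A ∧ A ≠ ⊥ ∧ A ≤ pCore p H ∧
      (∀ x ∈ A, ∀ y ∈ pCore p H, x * y = y * x) ∧
      ∀ x ∈ pCore p H, (∀ y ∈ pCore p H, x * y = y * x) → x ∈ A := by
  set R := pCore p H
  refine ⟨(Subgroup.center R).map R.subtype, inferInstance,
    ((pCore_isPGroup p H).to_subgroup _).map _, ?_, Subgroup.map_subtype_le _, ?_, ?_⟩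
  · haveI : Nontrivial R := (Subgroup.nontrivial_iff_ne_bot _).2 hne
    haveI := IsPGroup.center_nontrivial (pCore_isPGroup p H)
    rw [Ne, Subgroup.map_eq_bot_iff_of_injective _ R.subtype_injective]
    exact (Subgroup.nontrivial_iff_ne_bot _).1 ‹_›
  · rintro _ ⟨⟨x, hx⟩, hxc, rfl⟩ y hy
    exact congrArg Subtype.val (Subgroup.mem_center_iff.1 hxc ⟨y, hy⟩).symm
  · intro x hx h
    exact ⟨⟨x, hx⟩, Subgroup.mem_center_iff.2 fun y => Subtype.ext (h y y.2).symm, rfl⟩

/-- **Existence of a vanishing element of order `p`.** -/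
theorem exists_van_prime : ∀ (n : ℕ) (G : Type u) [Group G] [Finite G], Nat.card G ≤ n →
    Group.IsSolvable G → pCore p G = ⊥ → p ∣ Nat.card G →
    ∃ x : G, orderOf x = p ∧ ∃ χ : IrrCharacter G, (χ : G → ℂ) x = 0 := by
  intro n
  induction n with
  | zero => intro G _ _ h; exact absurd h (by have := Nat.card_pos (α := G); omega)
  | succ n ih =>
    intro G _ _ hn hsolv hO hd
    obtain ⟨N, hNn, hN0, hNc, hN⟩ := exists_normal hsolv hO hd
    by_cases hR : pCore p (G ⧸ N) = ⊥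
    · have hlt : Nat.card (G ⧸ N) < Nat.card G := Lib.Solvable.Carter.card_quotient_lt hN0
      have hdq : p ∣ Nat.card (G ⧸ N) := by
        rw [Subgroup.card_eq_card_quotient_mul_card_subgroup N] at hd
        exact (hp.out.dvd_mul.1 hd).resolve_right hN
      haveI := hsolv
      obtain ⟨x, hx, hχ⟩ := ih (G ⧸ N) (by omega) inferInstance hR hdq
      obtain ⟨y, rfl, hy⟩ := exists_lift N hN (k := 1) (by rw [hx, pow_one])
      exact ⟨y, by rw [hy, pow_one], exists_zero_of_image _ (QuotientGroup.mk'_surjective N) hχ⟩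
    · obtain ⟨A, hAn, hAp, hA0, hAR, hAc, -⟩ := center_pCore_props p _ hR
      haveI : Nontrivial A := (Subgroup.nontrivial_iff_ne_bot _).2 hA0
      obtain ⟨k, hk, hk'⟩ : ∃ k, 0 < k ∧ Nat.card A = p ^ k := hAp.nontrivial_iff_card.1 ‹_›
      obtain ⟨⟨a, ha⟩, hao⟩ := exists_prime_orderOf_dvd_card' (G := A) p
        (hk' ▸ dvd_pow_self p hk.ne')
      rw [Subgroup.orderOf_mk] at hao
      obtain ⟨y, hy, hyo⟩ := exists_lift N hN (k := 1) (by rw [hao, pow_one])
      refine ⟨y, by rw [hyo, pow_one], exists_zero_of_mem hO hN A hAp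
        (fun x hx y hy => hAc x hx y (hAR hy)) (hy ▸ ha) (hy ▸ fun h => ?_)⟩
      rw [h, orderOf_one] at hao
      exact hp.out.ne_one hao.symm

variable (p) in
/-- The hypothesis on the vanishing `p`-singular elements. -/
def Tame (G : Type u) [Group G] : Prop :=
  (∀ x y : G, VS p x → VS p y → (∃ k : ℕ, orderOf x = p ^ k) → ∃ k : ℕ, orderOf y = p ^ k) ∧
    ∀ x : G, VS p x → ¬ VS p (x ^ p)

theorem dvd_orderOf_of_image {x : G} {k : ℕ} (hk : orderOf (QuotientGroup.mk' N x) = p ^ k)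
    (h1 : QuotientGroup.mk' N x ≠ 1) : p ∣ orderOf x := by
  rcases k with _ | k
  · rw [pow_zero, orderOf_eq_one_iff] at hk
    exact absurd hk h1
  · exact (dvd_pow_self p (Nat.succ_ne_zero k)).trans (hk ▸ orderOf_map_dvd (QuotientGroup.mk' N) x)

/-- `x` has only vanishing preimages. -/
def Zero (x : G ⧸ N) : Prop :=
  ∀ y : G, QuotientGroup.mk' N y = x → ∃ χ : IrrCharacter G, (χ : G → ℂ) y = 0

/-- A `p`-element of the quotient all whose preimages vanish acts without fixed points. -/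
theorem fpf_of_zero (hT : Tame p G) (hN : ¬ p ∣ Nat.card N) {x : G ⧸ N} {k : ℕ}
    (hk : orderOf x = p ^ k) (hx1 : x ≠ 1) (hz : Zero x) (m : N) (hm : qact N x m = m) :
    m = 1 := by
  obtain ⟨y, rfl, hy⟩ := exists_lift N hN hk
  have hc : y * m = m * y := by
    have h2 := qact_mk N y m
    rw [hm] at h2
    exact mul_inv_eq_iff_eq_mul.1 h2.symm
  have himg : QuotientGroup.mk' N (y * m) = QuotientGroup.mk' N y := by
    rw [map_mul, (QuotientGroup.eq_one_iff _).2 m.2 |> fun h => show QuotientGroup.mk' N (m : G) = 1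
      from h, mul_one]
  have hVy : VS p y := ⟨dvd_orderOf_of_image hk hx1, hz y rfl⟩
  have hVym : VS p (y * m) :=
    ⟨dvd_orderOf_of_image (x := y * m) (himg ▸ hk) (himg ▸ hx1), hz _ himg⟩
  obtain ⟨j, hj⟩ := hT.1 y (y * m) hVy hVym ⟨k, hy⟩
  have h1 : (y * (m : G)) ^ (p ^ (j + k)) = 1 := by
    rw [pow_add, pow_mul, ← hj, pow_orderOf_eq_one, one_pow]
  rw [(show Commute y (m : G) from hc).mul_pow, pow_add, mul_comm (p ^ j), pow_mul y, ← hy,
    pow_orderOf_eq_one, one_pow, one_mul, hy, mul_comm (p ^ k), ← pow_add] at h1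
  exact orderOf_eq_one_iff.1 (Nat.eq_one_of_dvd_coprimes
    ((hp.out.coprime_iff_not_dvd.2 hN).pow_left (j + k))
    (orderOf_dvd_of_pow_eq_one (Subtype.ext h1)) (orderOf_dvd_natCard m))

/-- No such pair of commuting elements. -/
theorem false_of_pair (hT : Tame p G) (hN0 : N ≠ ⊥) (hN : ¬ p ∣ Nat.card N) {a b : G ⧸ N} {k : ℕ}
    (ha : orderOf a = p) (hbk : orderOf b = p ^ k) (hab : a * b = b * a)
    (hb : b ∉ Subgroup.zpowers a) (hbp : b ^ p ∈ Subgroup.zpowers a)
    (hza : ∀ x ∈ Subgroup.zpowers a, x ≠ 1 → Zero x) (hzb : ∀ i : ℕ, Zero (b * a ^ i)) : False := by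
  have ha1 : a ≠ 1 := fun h => hp.out.ne_one (by rw [← ha, h, orderOf_one])
  have hb1 : b ≠ 1 := fun h => hb (h ▸ one_mem _)
  by_cases hbp1 : b ^ p = 1
  swap
  · obtain ⟨y, rfl, hy⟩ := exists_lift N hN hbk
    refine hT.2 y ⟨dvd_orderOf_of_image hbk hb1, by simpa using hzb 0 y (by simp)⟩
      ⟨dvd_orderOf_of_image (N := N) (x := y ^ p) (k := 1) ?_ (by rwa [map_pow]),
        hza _ hbp hbp1 (y ^ p) (map_pow _ _ _)⟩
    rw [pow_one, map_pow]
    refine orderOf_eq_prime ?_ hbp1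
    exact orderOf_dvd_iff_pow_eq_one.1 ((orderOf_dvd_natCard (⟨_, hbp⟩ : Subgroup.zpowers a)).trans
      (by rw [Nat.card_zpowers, ha]) |> fun h => by rwa [Subgroup.orderOf_mk] at h)
  have hfa : ∀ v : N, qact N a v = v → v = 1 :=
    fpf_of_zero hT hN (k := 1) (by rw [pow_one, ha]) ha1 (hza a (Subgroup.mem_zpowers a) ha1)
  have hap : a ^ p = 1 := ha ▸ pow_orderOf_eq_one a
  have hfb : ∀ i : ℕ, ∀ v : N, qact N (b * a ^ i) v = v → v = 1 := by
    intro i
    have hne : b * a ^ i ≠ 1 := fun h => hb (by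
      rw [eq_inv_of_mul_eq_one_left h]
      exact inv_mem (pow_mem (Subgroup.mem_zpowers a) i))
    refine fpf_of_zero hT hN (k := 1) ?_ hne (hzb i)
    rw [pow_one]
    refine orderOf_eq_prime ?_ hne
    rw [(show Commute b a from hab.symm).pow_right i |>.mul_pow, hbp1, ← pow_mul, mul_comm i p,
      pow_mul, hap, one_pow, one_mul]
  open scoped IsMulCommutative in
  exact hN0 ((Subgroup.eq_bot_iff_forall N).2 fun m hm =>
    congrArg Subtype.val (eq_one_of_fpf (qact N) hp.out (fun v : N => pow_card_eq_one')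
      (hp.out.coprime_iff_not_dvd.2 hN) hab hap hbp1 hfa hfb ⟨m, hm⟩))

/-- **The main lemma.** -/
theorem not_sq_dvd : ∀ (n : ℕ) (G : Type u) [Group G] [Finite G], Nat.card G ≤ n →
    Group.IsSolvable G → pCore p G = ⊥ → Tame p G → ¬ p ^ 2 ∣ Nat.card G := by
  intro n
  induction n with
  | zero => intro G _ _ h; exact absurd h (by have := Nat.card_pos (α := G); omega)
  | succ n ih =>
    intro G _ _ hn hsolv hO hT hd2
    haveI := hsolv
    have hd : p ∣ Nat.card G := (dvd_pow_self p two_ne_zero).trans hd2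
    obtain ⟨N, hNn, hN0, hNc, hN⟩ := exists_normal hsolv hO hd
    have hmk := QuotientGroup.mk'_surjective N
    have hd2q : p ^ 2 ∣ Nat.card (G ⧸ N) := by
      rw [Subgroup.card_eq_card_quotient_mul_card_subgroup N] at hd2
      exact ((hp.out.coprime_iff_not_dvd.2 hN).pow_left 2).dvd_of_dvd_mul_right hd2
    by_cases hR : pCore p (G ⧸ N) = ⊥
    · have hlt : Nat.card (G ⧸ N) < Nat.card G := Lib.Solvable.Carter.card_quotient_lt hN0
      refine ih (G ⧸ N) (by omega) inferInstance hR ⟨?_, ?_⟩ hd2q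
      · rintro x y hx hy ⟨k, hk⟩
        obtain ⟨x', rfl, hx'⟩ := exists_lift N hN hk
        obtain ⟨y', rfl⟩ := hmk y
        obtain ⟨j, hj⟩ := hT.1 x' y' (hx.of_image _ hmk) (hy.of_image _ hmk) ⟨k, hx'⟩
        obtain ⟨i, -, hi⟩ := (Nat.dvd_prime_pow hp.out).1 (hj ▸ orderOf_map_dvd (QuotientGroup.mk' N) y')
        exact ⟨i, hi⟩
      · intro x hx hxp
        obtain ⟨x', rfl⟩ := hmk x
        rw [← map_pow] at hxp
        exact hT.2 x' (hx.of_image _ hmk) (hxp.of_image _ hmk)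
    obtain ⟨A, hAn, hAp, hA0, hAR, hAc, hAmem⟩ := center_pCore_props p _ hR
    have hAc' : ∀ x ∈ A, ∀ y ∈ A, x * y = y * x := fun x hx y hy => hAc x hx y (hAR hy)
    have hzA : ∀ x ∈ A, x ≠ 1 → Zero x := fun x hx hx1 y hy =>
      exists_zero_of_mem hO hN A hAp hAc' (hy ▸ hx) (hy ▸ hx1)
    -- the center of the `p`-core has order `p`
    haveI : Nontrivial A := (Subgroup.nontrivial_iff_ne_bot _).2 hA0
    obtain ⟨k, hk0, hk⟩ : ∃ k, 0 < k ∧ Nat.card A = p ^ k := hAp.nontrivial_iff_card.1 ‹_›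
    obtain ⟨⟨a, ha⟩, hao⟩ := exists_prime_orderOf_dvd_card' (G := A) p (hk ▸ dvd_pow_self p hk0.ne')
    rw [Subgroup.orderOf_mk] at hao
    have hpow : ∀ {H : Subgroup (G ⧸ N)}, IsPGroup p H → ∀ x ∈ H, ∃ j, orderOf x = p ^ j :=
      fun {H} hH x hx => by
        obtain ⟨j, hj⟩ := IsPGroup.iff_orderOf.1 hH ⟨x, hx⟩
        exact ⟨j, by rwa [Subgroup.orderOf_mk] at hj⟩
    have hza : Subgroup.zpowers a = A := by
      refine le_antisymm (Subgroup.zpowers_le.2 ha) fun c hc => ?_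
      by_contra hca
      have hex : ∃ j, c ^ p ^ j ∈ Subgroup.zpowers a := by
        obtain ⟨j, hj⟩ := hpow hAp c hc
        exact ⟨j, by rw [← hj, pow_orderOf_eq_one]; exact one_mem _⟩
      classical
      obtain ⟨j, hj⟩ : ∃ j, Nat.find hex = j + 1 := Nat.exists_eq_succ_of_ne_zero fun h0 => hca (by
        simpa [h0] using Nat.find_spec hex)
      set b := c ^ p ^ j with hb
      obtain ⟨i, hi⟩ := hpow hAp b (pow_mem hc _)
      refine false_of_pair hT hN0 hN hao hi (hAc' a ha b (pow_mem hc _))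
        (Nat.find_min hex (by omega)) ?_ (fun x hx hx1 => hzA x (Subgroup.zpowers_le.2 ha hx) hx1)
        (fun l => hzA _ (mul_mem (pow_mem hc _) (pow_mem ha l)) fun h => ?_)
      · rw [hb, ← pow_mul, ← pow_succ, ← hj]; exact Nat.find_spec hex
      · refine Nat.find_min hex (m := j) (by omega) ?_
        show b ∈ _
        rw [eq_inv_of_mul_eq_one_left h]
        exact inv_mem (pow_mem (Subgroup.mem_zpowers a) l)
    have hcardA : Nat.card A = p := by rw [← hza, Nat.card_zpowers, hao]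
    have ha1 : a ≠ 1 := fun h => hp.out.ne_one (by rw [← hao, h, orderOf_one])
    -- the `p`-core is its center
    have hRA : pCore p (G ⧸ N) = A := by
      refine le_antisymm ?_ hAR
      set R := pCore p (G ⧸ N) with hRdef
      by_contra hle
      have hRp : IsPGroup p R := pCore_isPGroup p _
      obtain ⟨y, hyc, hy⟩ : ∃ y : R, y ∉ Subgroup.center R ∧
          ∀ w : R, w * y * w⁻¹ * y⁻¹ ∈ Subgroup.center R := by
        have hne : Subgroup.center R ≠ ⊤ := fun h => hle fun x hx => hAmem x hx fun y hy =>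
          congrArg Subtype.val (Subgroup.mem_center_iff.1
            (h.symm ▸ Subgroup.mem_top (⟨x, hx⟩ : R)) ⟨y, hy⟩).symm
        haveI : Nontrivial (R ⧸ Subgroup.center R) := QuotientGroup.nontrivial_iff.2 hne
        haveI := IsPGroup.center_nontrivial (hRp.to_quotient (Subgroup.center R))
        obtain ⟨⟨ybar, hybar⟩, hy1⟩ := exists_ne (1 : Subgroup.center (R ⧸ Subgroup.center R))
        obtain ⟨y, rfl⟩ := QuotientGroup.mk'_surjective _ ybar
        refine ⟨y, fun h => hy1 (Subtype.ext ((QuotientGroup.eq_one_iff y).2 h)), fun w => ?_⟩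
        refine (QuotientGroup.eq_one_iff _).1 ?_
        show QuotientGroup.mk' (Subgroup.center R) (w * y * w⁻¹ * y⁻¹) = 1
        rw [map_mul, map_mul, map_mul, Subgroup.mem_center_iff.1 hybar, map_inv, map_inv]
        group
      obtain ⟨u, hu⟩ : ∃ u : R, u * y ≠ y * u := by
        by_contra h
        push Not at h
        exact hyc (Subgroup.mem_center_iff.2 h)
      have hmem : ∀ w : R, ((w * y * w⁻¹ * y⁻¹ : R) : G ⧸ N) ∈ A := fun w =>
        hAmem _ (w * y * w⁻¹ * y⁻¹ : R).2 fun x hx =>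
          congrArg Subtype.val (Subgroup.mem_center_iff.1 (hy w) ⟨x, hx⟩).symm
      set z := ((u * y * u⁻¹ * y⁻¹ : R) : G ⧸ N) with hz
      have hzA' : z ∈ A := hmem u
      have hz1 : z ≠ 1 := fun h => hu (by
        have h3 : u * y * u⁻¹ * y⁻¹ = 1 := Subtype.ext h
        exact mul_inv_eq_iff_eq_mul.1 (mul_inv_eq_one.1 h3))
      obtain ⟨i, hi⟩ := hpow hRp (y : G ⧸ N) y.2
      have hyA : (y : G ⧸ N) ∉ A := fun h => hyc (Subgroup.mem_center_iff.2 fun w =>
        Subtype.ext (hAc _ h w w.2).symm)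
      refine false_of_pair hT hN0 hN hao hi (hAc a ha y y.2) (hza ▸ hyA) ?_
        (fun x hx hx1 => hzA x (hza ▸ hx) hx1) fun l x hx => ?_
      · rw [hza]
        refine hAmem _ (pow_mem y.2 p) fun x hx => ?_
        obtain ⟨c, hc⟩ : ∃ c, c = ((⟨x, hx⟩ * y * ⟨x, hx⟩⁻¹ * y⁻¹ : R) : G ⧸ N) := ⟨_, rfl⟩
        have hcA : c ∈ A := hc ▸ hmem _
        have hcp : c ^ p = 1 := congrArg Subtype.val
          (show (⟨c, hcA⟩ : A) ^ p = 1 by rw [← hcardA]; exact pow_card_eq_one')
        have h1 : x * (y : G ⧸ N) * x⁻¹ = c * y := by simp [hc, mul_assoc]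
        have h2 : x * (y : G ⧸ N) ^ p * x⁻¹ = (y : G ⧸ N) ^ p := by
          rw [← conj_pow, h1, (show Commute c (y : G ⧸ N) from hAc c hcA y y.2).mul_pow, hcp,
            one_mul]
        exact (mul_inv_eq_iff_eq_mul.1 h2).symm
      · refine exists_zero_of_image _ hmk ?_
        rw [hx]
        refine exists_zero_of_conj A hcardA hzA' hz1 (u := (u : G ⧸ N)) (hAc z hzA' u u.2).symm ?_
        have h1 : (u : G ⧸ N) * y * (u : G ⧸ N)⁻¹ = z * y := by simp [hz, mul_assoc]
        have h2 : (u : G ⧸ N) * a ^ l * (u : G ⧸ N)⁻¹ = a ^ l := by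
          rw [← hAc _ (pow_mem ha l) u u.2, mul_inv_cancel_right]
        calc (u : G ⧸ N) * (y * a ^ l) * (u : G ⧸ N)⁻¹
            = ((u : G ⧸ N) * y * (u : G ⧸ N)⁻¹) * ((u : G ⧸ N) * a ^ l * (u : G ⧸ N)⁻¹) := by group
          _ = z * (y * a ^ l) := by rw [h1, h2, mul_assoc]
    -- the rest
    have hdH : p ∣ Nat.card ((G ⧸ N) ⧸ pCore p (G ⧸ N)) := by
      have h := Subgroup.card_eq_card_quotient_mul_card_subgroup (pCore p (G ⧸ N))
      rw [show Nat.card (pCore p (G ⧸ N)) = p by rw [hRA, hcardA]] at h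
      rw [h, pow_two] at hd2q
      exact (Nat.mul_dvd_mul_iff_right hp.out.pos).1 hd2q
    obtain ⟨v, hv, χ, hχ⟩ := exists_van_prime (p := p) _ ((G ⧸ N) ⧸ pCore p (G ⧸ N)) le_rfl inferInstance
      (pCore_quotient_pCore p (G ⧸ N)) hdH
    obtain ⟨b, rfl⟩ := QuotientGroup.mk'_surjective (pCore p (G ⧸ N)) v
    have hqa : QuotientGroup.mk' (pCore p (G ⧸ N)) a = 1 := (QuotientGroup.eq_one_iff a).2 (hRA ▸ ha)
    obtain ⟨i, hi⟩ := exists_pow_of_quotient (pCore p (G ⧸ N)) (pCore_isPGroup p (G ⧸ N)) (k := 1)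
      (by rw [hv, pow_one])
    have hab : a * b = b * a := by
      have hcm : b * a * b⁻¹ ∈ A := Subgroup.Normal.conj_mem hAn a ha b
      classical
      rw [← hza, mem_zpowers_iff_mem_range_orderOf] at hcm
      obtain ⟨j, -, hj⟩ := Finset.mem_image.1 hcm
      have hit : ∀ e : ℕ, b ^ e * a * (b ^ e)⁻¹ = a ^ (j ^ e) := fun e => by
        induction e with
        | zero => simp
        | succ e ihe =>
          calc b ^ (e + 1) * a * (b ^ (e + 1))⁻¹ = b ^ e * (b * a * b⁻¹) * (b ^ e)⁻¹ := by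
                rw [pow_succ]; group
            _ = (b ^ e * a * (b ^ e)⁻¹) ^ j := by rw [← hj, conj_pow]
            _ = a ^ (j ^ (e + 1)) := by rw [ihe, ← pow_mul, ← pow_succ]
      have h1 := hit (p ^ i)
      rw [← hi, pow_orderOf_eq_one, one_mul, inv_one, mul_one, hi] at h1
      have h2 : 1 ≡ j ^ p ^ i [MOD p] := by
        have h := pow_eq_pow_iff_modEq.1 (show a ^ 1 = a ^ (j ^ p ^ i) by rw [pow_one]; exact h1)
        rwa [hao] at h
      rw [← ZMod.natCast_eq_natCast_iff, Nat.cast_pow, ZMod.pow_card_pow, Nat.cast_one] at h2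
      have h3 : a ^ j = a := by
        conv_rhs => rw [← pow_one a]
        rw [pow_eq_pow_iff_modEq, hao, ← ZMod.natCast_eq_natCast_iff, Nat.cast_one]
        exact h2.symm
      exact (mul_inv_eq_iff_eq_mul.1 (hj.symm.trans h3)).symm
    refine false_of_pair hT hN0 hN hao hi hab (fun hb => ?_) ?_
      (fun x hx hx1 => hzA x (hza ▸ hx) hx1) fun l x hx => ?_
    · rw [hza, ← hRA] at hb
      rw [show QuotientGroup.mk' (pCore p (G ⧸ N)) b = 1 from (QuotientGroup.eq_one_iff b).2 hb,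
        orderOf_one] at hv
      exact hp.out.ne_one hv.symm
    · rw [hza, ← hRA]
      refine (QuotientGroup.eq_one_iff _).1 (show QuotientGroup.mk' (pCore p (G ⧸ N)) (b ^ p) = 1 from ?_)
      rw [map_pow]
      conv_lhs => arg 2; rw [← hv]
      exact pow_orderOf_eq_one _
    · refine exists_zero_of_image _ hmk (exists_zero_of_image _ (QuotientGroup.mk'_surjective (pCore p (G ⧸ N))) ⟨χ, ?_⟩)
      rw [hx, map_mul, map_pow, hqa, one_pow, mul_one]
      exact hχ

end Cfsg.Agent.Lib.VanishingOrders
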